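import Cfsg.Prelude.Def_Spor_J4
import Cfsg.Agent.J4Rep.Data

/-!
The representation of degree 112 over the field with two elements of the presented Janko group J4.
-/

set_option autoImplicit false
set_option Elab.async false

namespace Cfsg.Lib.J4Rep

/-- The product of a packed vector with a matrix given by its rows. -/
def va : ℕ → List ℕ → ℕ
  | _, [] => 0
  | v, r :: A => (if v % 2 = 1 then r else 0) ^^^ va (v / 2) A

/-- The matrix product. -/
def mmul (A B : List ℕ) : List ℕ := A.map fun r => va r B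

/-- The identity matrix. -/
def idMat : List ℕ := (List.range 112).map fun i => 2 ^ i

/-- The powers of a matrix. -/
def mpow (A : List ℕ) : ℕ → List ℕ
  | 0 => idMat
  | n + 1 => mmul (mpow A n) A

theorem xor_mod_two (a b : ℕ) : (a ^^^ b) % 2 = (a % 2 + b % 2) % 2 := by
  rcases Nat.mod_two_eq_zero_or_one a with ha | ha <;> rcases Nat.mod_two_eq_zero_or_one b with hb | hb <;>
    simp [ha, hb, Nat.xor_mod_two_eq_one] <;> omega

theorem va_xor : ∀ (A : List ℕ) (a b : ℕ), va (a ^^^ b) A = va a A ^^^ va b A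
  | [], a, b => by simp [va]
  | r :: A, a, b => by
    simp only [va, xor_mod_two, Nat.xor_div_two, va_xor A]
    generalize va (a / 2) A = p
    generalize va (b / 2) A = q
    rcases Nat.mod_two_eq_zero_or_one a with ha | ha <;> rcases Nat.mod_two_eq_zero_or_one b with hb | hb <;>
      simp [ha, hb] <;> (apply Nat.eq_of_testBit_eq; intro i; simp [Nat.testBit_xor]) <;>
      cases r.testBit i <;> cases p.testBit i <;> cases q.testBit i <;> rfl

theorem va_zero : ∀ A : List ℕ, va 0 A = 0
  | [] => rfl
  | r :: A => by simp [va, va_zero A]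

theorem va_mmul : ∀ (A B : List ℕ) (v : ℕ), va (va v A) B = va v (mmul A B)
  | [], B, v => by simp [va, mmul, va_zero]
  | r :: A, B, v => by
    simp only [va, mmul, List.map_cons, va_xor, va_mmul A B]
    split_ifs <;> simp [va_zero, mmul]

theorem va_pows_testBit : ∀ (n k v i : ℕ),
    (va v ((List.range' k n).map fun j => 2 ^ j)).testBit i = (decide (k ≤ i ∧ i < k + n) && v.testBit (i - k))
  | 0, k, v, i => by simp [va]
  | n + 1, k, v, i => by
    rw [List.range'_succ, List.map_cons, va, Nat.testBit_xor, va_pows_testBit n (k + 1), Nat.testBit_div_two]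
    rcases lt_trichotomy i k with h | rfl | h
    · have e1 : decide (k + 1 ≤ i ∧ i < k + 1 + n) = false := decide_eq_false (by omega)
      have e2 : decide (k ≤ i ∧ i < k + (n + 1)) = false := decide_eq_false (by omega)
      rw [e1, e2]
      split_ifs <;> simp [Nat.testBit_two_pow, Nat.ne_of_gt h]
    · rw [show i - i = 0 from Nat.sub_self i, Nat.testBit_zero]
      split_ifs with hv <;> simp [Nat.testBit_two_pow, hv]
    · rw [show i - (k + 1) + 1 = i - k by omega]
      have e : decide (k + 1 ≤ i ∧ i < k + 1 + n) = decide (k ≤ i ∧ i < k + (n + 1)) := by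
        apply decide_eq_decide.2; omega
      rw [e]
      split_ifs <;> simp [Nat.testBit_two_pow, Nat.ne_of_lt h]

theorem va_idMat {v : ℕ} (hv : v < 2 ^ 112) : va v idMat = v := by
  refine Nat.eq_of_testBit_eq fun i => ?_
  rw [idMat, List.range_eq_range', va_pows_testBit, Nat.sub_zero]
  by_cases h : i < 112
  · simp [h]
  · rw [Nat.testBit_lt_two_pow (lt_of_lt_of_le hv (Nat.pow_le_pow_right (by norm_num) (not_lt.1 h)))]
    simp

/-- Vectors. -/
abbrev Vec : Type := {v : ℕ // v < 2 ^ 112}

theorem va_lt {n : ℕ} : ∀ (A : List ℕ) (v : ℕ), (A.all fun r => decide (r < 2 ^ n)) = true → va v A < 2 ^ n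
  | [], v, _ => by simp [va]
  | r :: A, v, h => by
    simp only [List.all_cons, Bool.and_eq_true, decide_eq_true_eq] at h
    simp only [va]
    refine Nat.xor_lt_two_pow ?_ (va_lt A _ h.2)
    split_ifs
    · exact h.1
    · exact Nat.two_pow_pos n

/-- A permutation of the vectors from two inverse matrices. -/
def perm (A Ai : List ℕ) (h1 : mmul A Ai = idMat) (h2 : mmul Ai A = idMat)
    (hA : (A.all fun r => decide (r < 2 ^ 112)) = true) (hAi : (Ai.all fun r => decide (r < 2 ^ 112)) = true) :
    Equiv.Perm Vec where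
  toFun v := ⟨va v.1 Ai, va_lt Ai _ hAi⟩
  invFun v := ⟨va v.1 A, va_lt A _ hA⟩
  left_inv v := Subtype.ext (by
    show va (va v.1 Ai) A = v.1
    rw [va_mmul, h2, va_idMat v.2])
  right_inv v := Subtype.ext (by
    show va (va v.1 A) Ai = v.1
    rw [va_mmul, h1, va_idMat v.2])

theorem matX_sq : mmul matX matX = idMat := by decide +kernel
theorem matX_lt : (matX.all fun r => decide (r < 2 ^ 112)) = true := by decide +kernel
theorem matT_sq : mmul matT matT = idMat := by decide +kernel
theorem matT_lt : (matT.all fun r => decide (r < 2 ^ 112)) = true := by decide +kernel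
theorem matY_inv : mmul matY matYi = idMat := by decide +kernel
theorem matYi_inv : mmul matYi matY = idMat := by decide +kernel
theorem matY_lt : (matY.all fun r => decide (r < 2 ^ 112)) = true := by decide +kernel
theorem matYi_lt : (matYi.all fun r => decide (r < 2 ^ 112)) = true := by decide +kernel

/-- The images of the generators. -/
def genPerm : Cfsg.Spor.J4.Gen → Equiv.Perm Vec
  | .x => perm matX matX matX_sq matX_sq matX_lt matX_lt
  | .y => perm matY matYi matY_inv matYi_inv matY_lt matYi_lt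
  | .t => perm matT matT matT_sq matT_sq matT_lt matT_lt

/-- The action of the free group. -/
def rho : FreeGroup Cfsg.Spor.J4.Gen →* Equiv.Perm Vec := FreeGroup.lift genPerm

/-- The matrix of an element. -/
def Ok (g : FreeGroup Cfsg.Spor.J4.Gen) (A : List ℕ) : Prop := ∀ v : Vec, ((rho g).symm v).1 = va v.1 A

theorem Ok.mul {g h : FreeGroup Cfsg.Spor.J4.Gen} {A B : List ℕ} (hg : Ok g A) (hh : Ok h B) :
    Ok (g * h) (mmul A B) := fun v => by
  rw [map_mul, ← va_mmul, ← hg v]
  exact hh _

theorem Ok.one : Ok 1 idMat := fun v => by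
  rw [map_one, va_idMat v.2]
  rfl

theorem Ok.pow {g : FreeGroup Cfsg.Spor.J4.Gen} {A : List ℕ} (hg : Ok g A) : ∀ n : ℕ, Ok (g ^ n) (mpow A n)
  | 0 => by rw [pow_zero]; exact Ok.one
  | n + 1 => by rw [pow_succ]; exact (hg.pow n).mul hg

theorem Ok.eq_one {g : FreeGroup Cfsg.Spor.J4.Gen} {A : List ℕ} (hg : Ok g A) (h : A = idMat) : rho g = 1 := by
  have : (rho g).symm = Equiv.refl _ := Equiv.ext fun v => Subtype.ext (by
    rw [hg v, h, va_idMat v.2]
    rfl)
  rw [← Equiv.symm_symm (rho g), this]
  rfl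

theorem ok_x : Ok Cfsg.Spor.J4.x matX := fun v => by simp [rho, genPerm, perm]
theorem ok_y : Ok Cfsg.Spor.J4.y matY := fun v => by simp [rho, genPerm, perm]
theorem ok_t : Ok Cfsg.Spor.J4.t matT := fun v => by simp [rho, genPerm, perm]
theorem ok_xi : Ok Cfsg.Spor.J4.x⁻¹ matX := fun v => by simp [rho, genPerm, perm, Equiv.Perm.inv_def]
theorem ok_yi : Ok Cfsg.Spor.J4.y⁻¹ matYi := fun v => by simp [rho, genPerm, perm, Equiv.Perm.inv_def]
theorem ok_ti : Ok Cfsg.Spor.J4.t⁻¹ matT := fun v => by simp [rho, genPerm, perm, Equiv.Perm.inv_def]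

set_option maxHeartbeats 4000000 in
theorem relators_ok : ∀ r ∈ Cfsg.Spor.coxRelators Cfsg.Spor.J4.edges ∪ {r | r ∈ Cfsg.Spor.J4.extra}, rho r = 1 := by
  intro r hr
  rcases hr with ⟨a, ha, -⟩ | hr
  · simp [Cfsg.Spor.coxNodes, Cfsg.Spor.J4.edges] at ha
  · simp only [Cfsg.Spor.J4.extra, Set.mem_setOf_eq, List.mem_cons, List.not_mem_nil, or_false] at hr
    rcases hr with rfl | rfl | rfl | rfl | rfl | rfl | rfl | rfl | rfl | rfl | rfl | rfl
    all_goals try simp only [mul_inv_rev, ← inv_pow, inv_inv]
    all_goals apply Ok.eq_one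
    all_goals try (with_reducible repeat' first
      | exact ok_x | exact ok_y | exact ok_t | exact ok_xi | exact ok_yi | exact ok_ti
      | apply Ok.mul | apply Ok.pow)
    all_goals decide +kernel

theorem x_ne_one : rho Cfsg.Spor.J4.x ≠ 1 := by
  intro h
  have h1 := ok_x ⟨1, Nat.one_lt_two_pow (by norm_num)⟩
  rw [h] at h1
  have h2 : va 1 matX ≠ 1 := by decide +kernel
  exact h2 h1.symm

end Cfsg.Lib.J4Rep
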